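import Groth.Agent.Lib.LMSimple8.QuadF0

/-!
# An explicit matrix of linear forms on the quadric, surjective on global sections

With `N = diag(0, 1, …, r - 1)` and `M` a cyclic permutation matrix the commutator is invertible in
characteristic zero, so the `r × 2r` matrix `[u₀ + u₁ N | x₀ + x₁ M]` has no cokernel, neither as a map of
sheaves nor on global sections.
-/

set_option autoImplicit false
set_option linter.style.haveILetI false
set_option linter.unusedSectionVars false
set_option backward.isDefEq.respectTransparency false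
set_option backward.isDefEq.respectTransparency.types false
set_option maxHeartbeats 1000000

universe u

open CategoryTheory CategoryTheory.Limits AlgebraicGeometry TopologicalSpace

noncomputable section

namespace Groth.Agent.QuadMat11

open Groth.Agent Groth.Agent.LMSimple8.Quad

/-- The cyclic successor. -/
def nx {r : ℕ} (a : Fin r) : Fin r := ⟨(a.1 + 1) % r, Nat.mod_lt _ (Fin.pos a)⟩

theorem nx_ne {r : ℕ} (hr : 2 ≤ r) (a : Fin r) : ((nx a : ℕ) : ℤ) - (a : ℕ) ≠ 0 := by
  rcases Nat.lt_or_ge (a.1 + 1) r with h | h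
  · simp [nx, Nat.mod_eq_of_lt h]
  · have he : a.1 + 1 = r := le_antisymm a.2 h
    have : (nx a : ℕ) = 0 := by simp [nx, he]
    rw [this]
    omega

theorem nx_surjective {r : ℕ} (b : Fin r) : ∃ a, nx a = b := by
  rcases Nat.eq_zero_or_pos b.1 with h | h
  · refine ⟨⟨r - 1, by have := b.2; omega⟩, Fin.ext ?_⟩
    show (r - 1 + 1) % r = b.1
    rw [Nat.sub_add_cancel (Fin.pos b), Nat.mod_self, h]
  · refine ⟨⟨b.1 - 1, by have := b.2; omega⟩, Fin.ext ?_⟩
    show (b.1 - 1 + 1) % r = b.1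
    rw [Nat.sub_add_cancel h, Nat.mod_eq_of_lt b.2]

/-- The two relations force everything to vanish. -/
theorem all_zero {G : Type*} [AddCommGroup G] (htf : ∀ (n : ℤ) (g : G), n ≠ 0 → n • g = 0 → g = 0)
    {r : ℕ} (hr : 2 ≤ r) (E : Fin 2 → Fin 2 → Fin r → G)
    (h1 : ∀ i a, E i 0 a + ((a : ℕ) : ℤ) • E i 1 a = 0)
    (h2 : ∀ j a, E 0 j a + E 1 j (nx a) = 0) : ∀ i j a, E i j a = 0 := by
  have h11 : ∀ b, E 1 1 b = 0 := fun b => by
    obtain ⟨a, rfl⟩ := nx_surjective b
    refine htf _ _ (nx_ne hr a) ?_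
    have e1 := eq_neg_of_add_eq_zero_left (h1 0 a)
    have e2 := eq_neg_of_add_eq_zero_left (h2 1 a)
    have e3 := eq_neg_of_add_eq_zero_left (h2 0 a)
    have e4 := eq_neg_of_add_eq_zero_left (h1 1 (nx a))
    rw [e2, smul_neg, neg_neg] at e1
    rw [e4, neg_neg] at e3
    rw [sub_smul, sub_eq_zero]
    exact e3.symm.trans e1
  have h10 : ∀ b, E 1 0 b = 0 := fun b => by
    have := h1 1 b
    rwa [h11, smul_zero, add_zero] at this
  intro i j a
  fin_cases i <;> fin_cases j
  · have := h2 0 a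
    rwa [h10, add_zero] at this
  · have := h2 1 a
    rwa [h11, add_zero] at this
  · exact h10 a
  · exact h11 a

section general

variable {X : Scheme.{u}}

/-- Multiples of a morphism vanish only if it does, in characteristic zero. -/
theorem hom_zsmul_cancel {k : Type u} [Field k] [CharZero k] (p : X ⟶ Spec (CommRingCat.of k)) {M N : X.Modules}
    (n : ℤ) (f : M ⟶ N) (hn : n ≠ 0) (h : n • f = 0) : f = 0 := by
  refine Scheme.Modules.hom_ext _ _ fun V => ?_
  ext s
  let A : (M ⟶ N) →+ Γ(N, V) := AddMonoidHom.mk' (fun φ => φ.app V s) fun φ ψ => rfl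
  have h0 : n • (f.app V s) = (0 : Γ(N, V)) := by
    have h2 := map_zsmul A n f
    rw [h, map_zero] at h2
    exact h2.symm
  let φ : k →+* Γ(X, V) := (X.presheaf.map (homOfLE (le_top : V ≤ ⊤)).op).hom.comp
    ((Scheme.ΓSpecIso (CommRingCat.of k)).inv ≫ p.appTop).hom
  have hu : IsUnit ((n : ℤ) : Γ(X, V)) := by
    rw [← map_intCast φ n]
    exact (isUnit_iff_ne_zero.2 (Int.cast_ne_zero.2 hn)).map φ
  refine hu.smul_left_cancel.1 ?_
  show ((n : ℤ) : Γ(X, V)) • (f.app V s : Γ(N, V)) = ((n : ℤ) : Γ(X, V)) • (0 : Γ(N, V))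
  rw [Int.cast_smul_eq_zsmul, h0, smul_zero]

/-- Two maps out of the structure module with jointly surjective action. -/
theorem eq_zero_of_cover {A C T : X.Modules} {φ : FlatMod.freeMod X 2 ⟶ A} [Epi φ] (q : CohB1.tensorMod A C ⟶ T)
    (h : ∀ i, M2.tensorMap (Sigma.ι (fun _ : Fin 2 => Coh.structureModule X) i ≫ φ) (𝟙 C) ≫ q = 0) : q = 0 := by
  haveI : (M2.tensorR C).IsLeftAdjoint := CohMop.isLeftAdjoint_tenR C
  haveI : Epi ((M2.tensorR C).map φ) := inferInstance
  rw [← cancel_epi ((M2.tensorR C).map φ), comp_zero]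
  have hφ : φ = ∑ i, P1Split.proj (fun _ : Fin 2 => Coh.structureModule X) i ≫
      (Sigma.ι (fun _ : Fin 2 => Coh.structureModule X) i ≫ φ) := by
    simp only [← Category.assoc]
    rw [← Preadditive.sum_comp]
    erw [P1Split.sum_proj_ι (fun _ : Fin 2 => Coh.structureModule X)]
    exact (Category.id_comp φ).symm
  rw [hφ, Functor.map_sum, Preadditive.sum_comp]
  refine Finset.sum_eq_zero fun i _ => ?_
  rw [Functor.map_comp, Category.assoc]
  show _ ≫ M2.tensorMap _ (𝟙 C) ≫ q = 0
  rw [h i, comp_zero]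

variable {k : Type u} [Field k] [X.Over (Spec (CommRingCat.of k))]

/-- Sections along a map out of two copies of the structure module. -/
theorem exists_sum {A C : X.Modules} {φ : FlatMod.freeMod X 2 ⟶ A}
    (h : Function.Surjective (CurveCoh17.hmap k ((M2.tensorR C).map φ) 0)) (y : Coh.HH X (CohB1.tensorMod A C) 0) :
    ∃ z : Fin 2 → Coh.HH X (CohB1.tensorMod (Coh.structureModule X) C) 0,
      y = ∑ i, CurveCoh17.hmap k (M2.tensorMap (Sigma.ι (fun _ : Fin 2 => Coh.structureModule X) i ≫ φ) (𝟙 C)) 0 (z i) := by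
  obtain ⟨w, rfl⟩ := h y
  let π := fun i => P1Split.proj (fun _ : Fin 2 => Coh.structureModule X) i
  let ι := fun i => Sigma.ι (fun _ : Fin 2 => Coh.structureModule X) i
  have hπ : ∑ i, π i ≫ ι i = 𝟙 (FlatMod.freeMod X 2) := P1Split.sum_proj_ι _
  refine ⟨fun i => CurveCoh17.hmap k ((M2.tensorR C).map (π i)) 0 w, ?_⟩
  conv_lhs => rw [eq_sum k (F := M2.tensorR C) π ι hπ 0 w]
  refine (map_sum _ _ _).trans (Finset.sum_congr rfl fun i _ => ?_)
  refine (CurveCoh17.hmap_comp k _ _ 0 _).symm.trans ?_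
  rw [← Functor.map_comp]
  rfl

end general

end Groth.Agent.QuadMat11

end
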