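import Groth.Agent.Lib.QuadMat11.Basic

/-!
# The matrix on the quadric
-/

set_option autoImplicit false
set_option linter.style.haveILetI false
set_option linter.unusedSectionVars false
set_option backward.isDefEq.respectTransparency false
set_option backward.isDefEq.respectTransparency.types false
set_option maxHeartbeats 1000000

universe u

open CategoryTheory CategoryTheory.Limits AlgebraicGeometry TopologicalSpace

noncomputable section

namespace Groth.Agent.QuadMat11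

open Groth.Agent Groth.Agent.LMSimple8.Quad

variable (k : Type u) [Field k]

abbrev Oone (q : XX k ⟶ CohB1.ProjSpace 1 k) : (XX k).Modules :=
  (Scheme.Modules.pullback q).obj (_root_.Twist.twistProjSpace 1 k 1)

local notation "O_" => Coh.structureModule (XX k)
local notation "A₁" => Oone k (p₁ k)
local notation "B₁" => Oone k (p₂ k)

theorem exists_gen (q : XX k ⟶ CohB1.ProjSpace 1 k) :
    ∃ (φ : FlatMod.freeMod (XX k) 2 ⟶ (Scheme.Modules.pullback q).obj (_root_.Twist.twistProjSpace 1 k 1)),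
      Epi φ ∧ ∀ C : (XX k).Modules, PicF.IsInvertible C →
        Subsingleton (Coh.HH (XX k) (CohB1.tensorMod
          ((Scheme.Modules.pullback q).obj (_root_.Twist.twistProjSpace 1 k (-1))) C) 1) →
        Function.Surjective (CurveCoh17.hmap k ((M2.tensorR C).map φ) 0) := by
  obtain ⟨S, hS, ⟨e₁⟩, ⟨e₂⟩, ⟨e₃⟩⟩ := exists_pencil k q
  haveI := hS.epi_g
  refine ⟨e₂.inv ≫ S.g ≫ e₃.hom, inferInstance, fun C hC hv => ?_⟩
  have hT := CohFound.shortExact_tensor_invertible hS hC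
  haveI := (CurveCoh17.hequiv k (M2.tensorIso e₁ (Iso.refl C)) 1).toEquiv.subsingleton_congr.2 hv
  intro y
  obtain ⟨z, hz⟩ := (CurveCoh17.exact_hmap_hdelta k hT 0 ((CurveCoh17.hequiv k ((M2.tensorR C).mapIso e₃) 0).symm y)).1
    (Subsingleton.elim (α := Coh.HH (XX k) (CohB1.tensorMod S.X₁ C) 1) _ _)
  refine ⟨CurveCoh17.hmap k ((M2.tensorR C).map e₂.hom) 0 z, ?_⟩
  refine (CurveCoh17.hmap_comp k _ _ 0 z).symm.trans ?_
  rw [← Functor.map_comp, Iso.hom_inv_id_assoc, Functor.map_comp]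
  refine (CurveCoh17.hmap_comp k _ _ 0 z).trans ?_
  refine (congrArg (CurveCoh17.hmap k _ 0) hz).trans ?_
  exact (CurveCoh17.hequiv k ((M2.tensorR C).mapIso e₃) 0).apply_symm_apply y

/-- The matrix exists. -/
theorem exists_matrix [CharZero k] (r : ℕ) (hr : 2 ≤ r) :
    ∃ m : (∐ fun _ : Fin r => Ob k 1 0) ⊞ (∐ fun _ : Fin r => Ob k 0 1) ⟶ (∐ fun _ : Fin r => Ob k 1 1),
      Epi m ∧ Function.Surjective (CurveCoh17.hmap k m 0) := by
  classical
  obtain ⟨z₁⟩ := nonempty_pull_zero k (p₁ k)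
  obtain ⟨z₂⟩ := nonempty_pull_zero k (p₂ k)
  obtain ⟨φ₁, hφ₁, hs₁⟩ := exists_gen k (p₁ k)
  obtain ⟨φ₂, hφ₂, hs₂⟩ := exists_gen k (p₂ k)
  haveI := hφ₁
  haveI := hφ₂
  let X : Fin 2 → (O_ ⟶ A₁) := fun i => Sigma.ι (fun _ : Fin 2 => O_) i ≫ φ₁
  let U : Fin 2 → (O_ ⟶ B₁) := fun i => Sigma.ι (fun _ : Fin 2 => O_) i ≫ φ₂
  let OO := CohB1.tensorMod O_ O_
  let e : Fin 2 → Fin 2 → (OO ⟶ Ob k 1 1) := fun i j => M2.tensorMap (X i) (U j)
  let uQ : Fin 2 → (Ob k 1 0 ⟶ Ob k 1 1) := fun j => M2.tensorMap (𝟙 _) (z₂.hom ≫ U j)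
  let xQ : Fin 2 → (Ob k 0 1 ⟶ Ob k 1 1) := fun i => M2.tensorMap (z₁.hom ≫ X i) (𝟙 _)
  let a₁ : Fin 2 → (OO ⟶ Ob k 1 0) := fun i => M2.tensorMap (X i) z₂.inv
  let b₁ : Fin 2 → (OO ⟶ Ob k 0 1) := fun j => M2.tensorMap z₁.inv (U j)
  have ha : ∀ i j, a₁ i ≫ uQ j = e i j := fun i j => by
    show M2.tensorMap (X i) z₂.inv ≫ M2.tensorMap (𝟙 _) (z₂.hom ≫ U j) = M2.tensorMap (X i) (U j)
    rw [← M2.tensorMap_comp, Category.comp_id, Iso.inv_hom_id_assoc]
  have hb : ∀ i j, b₁ j ≫ xQ i = e i j := fun i j => by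
    show M2.tensorMap z₁.inv (U j) ≫ M2.tensorMap (z₁.hom ≫ X i) (𝟙 _) = M2.tensorMap (X i) (U j)
    rw [← M2.tensorMap_comp, Category.comp_id, Iso.inv_hom_id_assoc]
  let ι : Fin r → (Ob k 1 1 ⟶ ∐ fun _ : Fin r => Ob k 1 1) := fun a => Sigma.ι (fun _ : Fin r => Ob k 1 1) a
  let m₁ : (∐ fun _ : Fin r => Ob k 1 0) ⟶ (∐ fun _ : Fin r => Ob k 1 1) :=
    Sigma.desc fun a => (uQ 0 + ((a : ℕ) : ℤ) • uQ 1) ≫ ι a
  let m₂ : (∐ fun _ : Fin r => Ob k 0 1) ⟶ (∐ fun _ : Fin r => Ob k 1 1) :=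
    Sigma.desc fun a => xQ 0 ≫ ι a + xQ 1 ≫ ι (nx a)
  let m := biprod.desc m₁ m₂
  have hm₁ : ∀ i a, (a₁ i ≫ Sigma.ι (fun _ : Fin r => Ob k 1 0) a ≫ biprod.inl) ≫ m =
      e i 0 ≫ ι a + ((a : ℕ) : ℤ) • (e i 1 ≫ ι a) := fun i a => by
    simp only [m, Category.assoc, biprod.inl_desc, m₁, Sigma.ι_desc]
    rw [Preadditive.add_comp, Preadditive.zsmul_comp, Preadditive.comp_add, Preadditive.comp_zsmul,
      ← Category.assoc, ← Category.assoc, ha, ha]
  have hm₂ : ∀ j a, (b₁ j ≫ Sigma.ι (fun _ : Fin r => Ob k 0 1) a ≫ biprod.inr) ≫ m =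
      e 0 j ≫ ι a + e 1 j ≫ ι (nx a) := fun j a => by
    simp only [m, Category.assoc, biprod.inr_desc, m₂, Sigma.ι_desc]
    rw [Preadditive.comp_add, ← Category.assoc, ← Category.assoc, hb, hb]
  have hswap : ∀ i j, M2.tensorMap (U j) (𝟙 O_) ≫ (M2.tensorComm B₁ O_).hom ≫ M2.tensorMap (X i) (𝟙 B₁) =
      (M2.tensorComm O_ O_).hom ≫ e i j := fun i j => by
    rw [← Category.assoc, M2.tensorComm_natural, Category.assoc, ← M2.tensorMap_comp, Category.id_comp,
      Category.comp_id]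
  have hswap' : ∀ i j {T : (XX k).Modules} (f : Ob k 1 1 ⟶ T),
      M2.tensorMap (U j) (𝟙 O_) ≫ (M2.tensorComm B₁ O_).hom ≫ M2.tensorMap (X i) (𝟙 B₁) ≫ f =
        (M2.tensorComm O_ O_).hom ≫ e i j ≫ f := fun i j T f => by
    have := congrArg (fun h => h ≫ f) (hswap i j)
    simpa only [Category.assoc] using this
  refine ⟨m, ?_, ?_⟩
  · refine Preadditive.epi_of_cancel_zero _ fun {T} q hq => ?_
    have hE := all_zero (G := (OO ⟶ T))
      (hom_zsmul_cancel (p₁ k ≫ CohB1.ProjSpace.toSpec 1 k))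
      hr (fun i j a => e i j ≫ ι a ≫ q)
      (fun i a => by
        have := (congrArg (fun f => f ≫ q) (hm₁ i a)).symm
        simpa only [Category.assoc, hq, comp_zero, Preadditive.add_comp, Preadditive.zsmul_comp] using this)
      (fun j a => by
        have := (congrArg (fun f => f ≫ q) (hm₂ j a)).symm
        simpa only [Category.assoc, hq, comp_zero, Preadditive.add_comp] using this)
    refine Sigma.hom_ext _ _ fun a => ?_
    rw [comp_zero]
    refine eq_zero_of_cover (φ := φ₁) _ fun i => ?_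
    rw [← cancel_epi (M2.tensorComm B₁ O_).hom, comp_zero]
    refine eq_zero_of_cover (φ := φ₂) _ fun j => ?_
    have := congrArg (fun f => (M2.tensorComm O_ O_).hom ≫ f) (hE i j a)
    simp only [comp_zero] at this
    exact (hswap' i j _).trans this
  · let R : Submodule k (Coh.HH (XX k) (∐ fun _ : Fin r => Ob k 1 1) 0) :=
      LinearMap.range (CurveCoh17.hmap k m 0)
    have hE : ∀ (c : Coh.HH (XX k) OO 0) i j a, CurveCoh17.hmap k (e i j ≫ ι a) 0 c ∈ R := by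
      intro c i j a
      let π := Submodule.mkQ R
      let H : (OO ⟶ ∐ fun _ : Fin r => Ob k 1 1) →+ (_ ⧸ R) :=
        AddMonoidHom.mk' (fun f => π (CurveCoh17.hmap k f 0 c)) fun f g => by
          rw [CMReg18.hmap_add, map_add]
      have hR : ∀ f : OO ⟶ (∐ fun _ : Fin r => Ob k 1 0) ⊞ (∐ fun _ : Fin r => Ob k 0 1), H (f ≫ m) = 0 :=
        fun f => (Submodule.Quotient.mk_eq_zero R).2 ⟨CurveCoh17.hmap k f 0 c, (CurveCoh17.hmap_comp k f m 0 c).symm⟩
      have := all_zero (G := _ ⧸ R)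
        (fun n g hn h => by
          rw [← Int.cast_smul_eq_zsmul k] at h
          exact (smul_eq_zero.1 h).resolve_left (Int.cast_ne_zero.2 hn))
        hr (fun i j a => H (e i j ≫ ι a))
        (fun i a => by
          have := hR (a₁ i ≫ Sigma.ι (fun _ : Fin r => Ob k 1 0) a ≫ biprod.inl)
          rwa [hm₁, map_add, map_zsmul] at this)
        (fun j a => by
          have := hR (b₁ j ≫ Sigma.ι (fun _ : Fin r => Ob k 0 1) a ≫ biprod.inr)
          rwa [hm₂, map_add] at this) i j a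
      exact (Submodule.Quotient.mk_eq_zero R).1 this
    intro y
    change y ∈ R
    rw [← CurveCoh17.hmap_id k _ 0 y, ← P1Split.sum_proj_ι (fun _ : Fin r => Ob k 1 1), CMReg18.hmap_sum]
    refine Submodule.sum_mem _ fun a _ => ?_
    rw [CurveCoh17.hmap_comp]
    have hB : PicF.IsInvertible B₁ := Twist.isInvertible_pullback _ (Twist.isInvertible_twistProjSpace 1 k 1)
    have hO : PicF.IsInvertible O_ := PicLoc.isInvertible_structureModule (XX k)
    obtain ⟨u⟩ := nonempty_Ob_tensor k 0 0 0 0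
    obtain ⟨z, hz⟩ := exists_sum (k := k) (hs₁ B₁ hB (subsingleton_Ob k (-1) 1 1 fun p hp => by omega))
      (CurveCoh17.hmap k (P1Split.proj (fun _ : Fin r => Ob k 1 1) a) 0 y)
    rw [hz, map_sum]
    refine Submodule.sum_mem _ fun i _ => ?_
    obtain ⟨w, hw⟩ := exists_sum (k := k) (hs₂ O_ hO (by
        obtain ⟨s⟩ := nonempty_pull_snd k (-1)
        exact (CurveCoh17.hequiv k (M2.tensorRUnit _ ≪≫ s) 1).toEquiv.subsingleton_congr.2
          (subsingleton_Ob k 0 (-1) 1 fun p hp => by omega)))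
      (CurveCoh17.hmap k (M2.tensorComm O_ B₁).hom 0 (z i))
    have hz' : z i = CurveCoh17.hmap k (M2.tensorComm B₁ O_).hom 0
        (CurveCoh17.hmap k (M2.tensorComm O_ B₁).hom 0 (z i)) :=
      ((CurveCoh17.hequiv k (M2.tensorComm O_ B₁) 0).symm_apply_apply (z i)).symm
    rw [hz', hw, map_sum, map_sum, map_sum]
    refine Submodule.sum_mem _ fun j _ => ?_
    rw [← CurveCoh17.hmap_comp, ← CurveCoh17.hmap_comp, ← CurveCoh17.hmap_comp]
    have he : M2.tensorMap (U j) (𝟙 O_) ≫ ((M2.tensorComm B₁ O_).hom ≫ M2.tensorMap (X i) (𝟙 B₁)) ≫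
        ι a = (M2.tensorComm O_ O_).hom ≫ e i j ≫ ι a := by
      rw [Category.assoc]
      exact hswap' i j _
    have h := hE (CurveCoh17.hmap k (M2.tensorComm O_ O_).hom 0 (w j)) i j a
    rw [← CurveCoh17.hmap_comp, ← he] at h
    simpa only [Category.assoc] using h

end Groth.Agent.QuadMat11

end
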